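import Groth.Agent.Krr.H474.NilFilt

/-!
# The shift of the gamma-filtration under a map satisfying an Adams Riemann-Roch formula

Let `(K, P)` have the splitting property and an ample line element.  For `θ ∈ K` of augmentation
`a`, put `T x = θ · ψ^j x`.  Every `x ∈ F^n K` satisfies `∏_{k=n}^{n+m-1} (T - a j^k) x = 0` for
some `m` (`exists_E_eq_zero`).  Consequently, if `h : K → K'` is additive with
`ψ^j (h x) = h (θ ψ^j x)`, `a = j^d`, `j ≥ 2`, then `h (F^n K) ⊆ ℚ F^{n+d} K'` (`filtShift`).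
-/

set_option autoImplicit false
universe u v

open PowerSeries Finset LambdaRing

namespace Groth.Agent.Krr.H474.FiltShift

open Groth.Agent.Books.Lambda1 Groth.Agent.Books.Lambda2 Groth.Agent.Books.Lambda3
open Groth.Agent.Krr.H474.NilpSplit Groth.Agent.Krr.H474.NilFilt

section Q

variable {K : Type u} [CommRing K] [LambdaOps K] (P : PosStructure K) (C : Set PosLambdaRing.{u})

/-- cofinally among the extensions `L` of `K` in the class `C`, the image of `x` lies in `S W n` for
a finite set `W` of nilpotent elements `w` with `1 + w` a line element -/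
def Q (n : ℕ) (x : K) : Prop :=
  ∀ (L : PosLambdaRing.{u}) (_ : L ∈ C) (g : K →+* L.carrier) (_ : IsExtension P L.posStr g),
    ∃ (L' : PosLambdaRing.{u}) (_ : L' ∈ C) (g' : L.carrier →+* L'.carrier)
      (_ : IsExtension L.posStr L'.posStr g') (W : Set L'.carrier),
      W.Finite ∧ (∀ w ∈ W, IsNilpotent w) ∧ IsLineSet L'.posStr W ∧ g' (g x) ∈ S W n

variable {P C}

lemma isExtension_id (L : PosLambdaRing.{u}) : IsExtension L.posStr L.posStr (RingHom.id _) where
  isLambdaHom _ _ := rfl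
  injective := fun _ _ h => h
  aug_comp _ := rfl
  pos_subset _ h := h

lemma Q_combine {n m : ℕ} {x y : K} (hx : Q P C n x) (hy : Q P C m y)
    (L : PosLambdaRing.{u}) (hL : L ∈ C) (g : K →+* L.carrier) (hg : IsExtension P L.posStr g) :
    ∃ (L' : PosLambdaRing.{u}) (_ : L' ∈ C) (g' : L.carrier →+* L'.carrier)
      (_ : IsExtension L.posStr L'.posStr g') (W : Set L'.carrier),
      W.Finite ∧ (∀ w ∈ W, IsNilpotent w) ∧ IsLineSet L'.posStr W ∧ g' (g x) ∈ S W n ∧
        g' (g y) ∈ S W m := by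
  obtain ⟨L', hL', g', hg', W, hW, hWn, hWl, h1⟩ := hx L hL g hg
  obtain ⟨L'', hL'', g'', hg'', V, hV, hVn, hVl, h2⟩ := hy L' hL' (g'.comp g) (IsExtension_comp hg hg')
  refine ⟨L'', hL'', g''.comp g', IsExtension_comp hg' hg'', (g'' '' W) ∪ V,
    (hW.image _).union hV, ?_, ?_, ?_, ?_⟩
  · rintro w (⟨w', hw', rfl⟩ | hw)
    · exact (hWn w' hw').map g''
    · exact hVn w hw
  · rintro w (⟨w', hw', rfl⟩ | hw)
    · have := IsLine_map hg'' (hWl w' hw')
      rwa [map_add, map_one] at this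
    · exact hVl w hw
  · exact S_mono Set.subset_union_left n (S_map g'' (fun w hw => Set.mem_image_of_mem _ hw) h1)
  · exact S_mono Set.subset_union_right m h2

lemma Q_add {n : ℕ} {x y : K} (hx : Q P C n x) (hy : Q P C n y) : Q P C n (x + y) := by
  intro L hL g hg
  obtain ⟨L', hL', g', hg', W, hW, hWn, hWl, h1, h2⟩ := Q_combine hx hy L hL g hg
  refine ⟨L', hL', g', hg', W, hW, hWn, hWl, ?_⟩
  rw [map_add, map_add]
  exact AddSubgroup.add_mem _ h1 h2

lemma Q_mul {n m : ℕ} {x y : K} (hx : Q P C n x) (hy : Q P C m y) : Q P C (n + m) (x * y) := by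
  intro L hL g hg
  obtain ⟨L', hL', g', hg', W, hW, hWn, hWl, h1, h2⟩ := Q_combine hx hy L hL g hg
  refine ⟨L', hL', g', hg', W, hW, hWn, hWl, ?_⟩
  rw [map_mul, map_mul]
  exact S_mul h1 h2

lemma Q_mul' {n m k : ℕ} (h : n + m = k) {x y : K} (hx : Q P C n x) (hy : Q P C m y) :
    Q P C k (x * y) := h ▸ Q_mul hx hy

lemma Q_neg {n : ℕ} {x : K} (hx : Q P C n x) : Q P C n (-x) := by
  intro L hL g hg
  obtain ⟨L', hL', g', hg', W, hW, hWn, hWl, h1⟩ := hx L hL g hg
  refine ⟨L', hL', g', hg', W, hW, hWn, hWl, ?_⟩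
  rw [map_neg, map_neg]
  exact AddSubgroup.neg_mem _ h1

lemma Q_zero (n : ℕ) : Q P C n (0 : K) := by
  intro L hL g hg
  refine ⟨L, hL, RingHom.id _, isExtension_id L, ∅, Set.finite_empty, by simp, ?_, ?_⟩
  · intro w hw
    exact absurd hw (Set.notMem_empty w)
  · rw [map_zero, map_zero]
    exact AddSubgroup.zero_mem _

lemma Q_one : Q P C 0 (1 : K) := by
  intro L hL g hg
  refine ⟨L, hL, RingHom.id _, isExtension_id L, ∅, Set.finite_empty, by simp, ?_, ?_⟩
  · intro w hw
    exact absurd hw (Set.notMem_empty w)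
  · rw [map_one, map_one]
    exact one_mem_S _

lemma Q_anti {m n : ℕ} (h : m ≤ n) {x : K} (hx : Q P C n x) : Q P C m x := by
  intro L hL g hg
  obtain ⟨L', hL', g', hg', W, hW, hWn, hWl, h1⟩ := hx L hL g hg
  exact ⟨L', hL', g', hg', W, hW, hWn, hWl, S_anti W h h1⟩

lemma Q_sum {ι : Type*} (s : Finset ι) (f : ι → K) {n : ℕ} (h : ∀ i ∈ s, Q P C n (f i)) :
    Q P C n (∑ i ∈ s, f i) := by
  classical
  induction s using Finset.induction_on with
  | empty => simpa using Q_zero n
  | insert a s ha ih =>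
    rw [Finset.sum_insert ha]
    exact Q_add (h a (Finset.mem_insert_self _ _))
      (ih (fun i hi => h i (Finset.mem_insert_of_mem hi)))

/-- the class `C` has the splitting property -/
def Splits (C : Set PosLambdaRing.{u}) : Prop :=
  ∀ L ∈ C, ∀ e ∈ L.posStr.pos, ∃ L' ∈ C, ∃ f : L.carrier →+* L'.carrier,
      IsExtension L.posStr L'.posStr f ∧
      ∃ s : Multiset L'.carrier, (∀ u ∈ s, L'.posStr.IsLine u) ∧ s.sum = f e

lemma Splits.hasSplitting {C : Set PosLambdaRing.{u}} (hC : Splits C) (L : PosLambdaRing.{u})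
    (hL : L ∈ C) : HasSplitting L.carrier L.posStr := ⟨C, hL, hC⟩

/-- the gamma operations of a sum of `w`'s -/
lemma gamma_multiset_mem {L : Type u} [CommRing L] [LambdaOps L] (PL : PosStructure L)
    (s : Multiset L) (hs : ∀ v ∈ s, PL.IsLine v) (W : Set L) (hW : ∀ v ∈ s, v - 1 ∈ W) (r : ℕ) :
    gamma r (s.sum - (Multiset.card s : L)) ∈ S W r := by
  induction s using Multiset.induction_on generalizing r with
  | empty =>
    simp only [Multiset.sum_zero, Multiset.card_zero, Nat.cast_zero, sub_zero]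
    rw [← coeff_gammaSeries, gammaSeries_zero, coeff_one]
    split_ifs with h
    · subst h; exact one_mem_S W
    · exact AddSubgroup.zero_mem _
  | cons v s ih =>
    have h1 : (v ::ₘ s).sum - (Multiset.card (v ::ₘ s) : L) =
        (v - 1) + (s.sum - (Multiset.card s : L)) := by
      rw [Multiset.sum_cons, Multiset.card_cons]; push_cast; ring
    rw [h1, gamma_add]
    have hv := hs v (Multiset.mem_cons_self _ _)
    refine AddSubgroup.sum_mem _ fun i hi => ?_
    have hi' := Finset.mem_range.mp hi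
    have ih' := ih (fun w hw => hs w (Multiset.mem_cons_of_mem hw))
      (fun w hw => hW w (Multiset.mem_cons_of_mem hw)) (r - i)
    have h2 : gamma i (v - 1) ∈ S W i := by
      rw [← coeff_gammaSeries, gammaSeries_line_sub_one PL v hv]
      rcases i with _ | _ | i
      · simp [one_mem_S W]
      · simpa using mem_S_one (hW v (Multiset.mem_cons_self _ _))
      · rw [map_add, coeff_one, if_neg (by omega), coeff_C_mul, coeff_X, if_neg (by omega)]
        simp [AddSubgroup.zero_mem]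
    exact S_mul' (by omega) h2 ih'

lemma Q_gamma_pos (hC : Splits C) (u : K) (hu : Ample P u) (e : K)
    (he : e ∈ P.pos) (r : ℕ) : Q P C r (gamma r (e - ((P.aug e).toNat : K))) := by
  intro L hL g hg
  obtain ⟨L', hL', g', hg', s, hs, hsum⟩ := hC L hL (g e) (hg.pos_subset _ he)
  refine ⟨L', hL', g', hg', {w | w ∈ s.map (fun v => v - 1)}, ?_, ?_, ?_, ?_⟩
  · exact Multiset.finite_toSet _
  · intro w hw
    obtain ⟨v, hv, rfl⟩ := Multiset.mem_map.mp hw
    exact isNilpotent_sub_one P u hu L'.posStr (hC.hasSplitting L' hL') (g'.comp g)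
      (IsExtension_comp hg hg') e s hs (by simpa using hsum) hv
  · intro w hw
    obtain ⟨v, hv, rfl⟩ := Multiset.mem_map.mp hw
    have h1 : 1 + (v - 1) = v := by ring
    rw [h1]
    exact hs v hv
  · have hcard : (Multiset.card s : ℤ) = P.aug e := by
      rw [← aug_multiset_sum L'.posStr s hs, hsum, hg'.aug_comp, hg.aug_comp]
    have hcard' : (P.aug e).toNat = Multiset.card s := by
      rw [← hcard]; simp
    have h1 : g' (g (gamma r (e - ((P.aug e).toNat : K)))) =
        gamma r (s.sum - (Multiset.card s : L'.carrier)) := by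
      rw [map_gamma hg.isLambdaHom, map_gamma hg'.isLambdaHom, hcard', map_sub, map_sub,
        map_natCast, map_natCast, hsum]
    rw [h1]
    refine gamma_multiset_mem L'.posStr s hs _ (fun v hv => ?_) r
    change v - 1 ∈ s.map (fun v => v - 1)
    exact Multiset.mem_map_of_mem _ hv

lemma Q_gamma_neg (x : K) (h : ∀ r, Q P C r (gamma r x)) : ∀ r, Q P C r (gamma r (-x)) := by
  intro r
  induction r using Nat.strong_induction_on with
  | _ r ih =>
    rcases Nat.eq_zero_or_pos r with rfl | hr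
    · have := h 0
      rw [gamma_zero] at this ⊢
      exact this
    · have h1 : ∑ i ∈ range (r + 1), gamma i x * gamma (r - i) (-x) = 0 := by
        rw [← gamma_add, add_neg_cancel, ← coeff_gammaSeries, gammaSeries_zero,
          PowerSeries.coeff_one, if_neg (by omega)]
      rw [Finset.sum_range_succ'] at h1
      rw [gamma_zero, one_mul, Nat.sub_zero] at h1
      have h2 : gamma r (-x) = - ∑ k ∈ range r, gamma (k + 1) x * gamma (r - (k + 1)) (-x) := by
        exact eq_neg_of_add_eq_zero_right h1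
      rw [h2]
      apply Q_neg
      apply Q_sum
      intro k hk
      have hk' := Finset.mem_range.mp hk
      exact Q_mul' (by omega) (h (k + 1)) (ih (r - (k + 1)) (by omega))

lemma Q_gamma_add (x y : K) (h : ∀ r, Q P C r (gamma r x)) (h' : ∀ r, Q P C r (gamma r y)) :
    ∀ r, Q P C r (gamma r (x + y)) := by
  intro r
  rw [gamma_add]
  apply Q_sum
  intro k hk
  have hk' := Finset.mem_range.mp hk
  exact Q_mul' (by omega) (h k) (h' (r - k))

lemma Q_gamma (hC : Splits C) (u : K) (hu : Ample P u) (x : K)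
    (hx : P.aug x = 0) (r : ℕ) : Q P C r (gamma r x) := by
  obtain ⟨a, b, ha, hb, rfl⟩ := P.exists_sub x
  have hab : P.aug a = P.aug b := by
    rw [map_sub] at hx; omega
  have h1 : a - b = (a - ((P.aug a).toNat : K)) + (-(b - ((P.aug b).toNat : K))) := by
    rw [hab]; ring
  rw [h1]
  exact Q_gamma_add _ _ (Q_gamma_pos hC u hu a ha)
    (Q_gamma_neg _ (Q_gamma_pos hC u hu b hb)) r

lemma Q_aug_zero (hC : Splits C) (u : K) (hu : Ample P u) (x : K)
    (hx : P.aug x = 0) : Q P C 1 x := by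
  have := Q_gamma hC u hu x hx 1
  rwa [gamma_one] at this

lemma Q_intCast (a : ℤ) : Q P C 0 (a : K) := by
  induction a using Int.induction_on with
  | zero => simpa using Q_zero 0
  | succ n ih =>
    have e : (((n : ℤ) + 1 : ℤ) : K) = ((n : ℤ) : K) + 1 := by push_cast; ring
    rw [e]
    exact Q_add ih Q_one
  | pred n ih =>
    have e : (((-(n : ℤ) - 1 : ℤ)) : K) = ((-(n : ℤ) : ℤ) : K) + (-1) := by push_cast; ring
    rw [e]
    exact Q_add ih (Q_neg Q_one)

lemma Q_all (hC : Splits C) (u : K) (hu : Ample P u) (x : K) : Q P C 0 x := by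
  have h1 : P.aug (x - (P.aug x : K)) = 0 := by simp
  have h2 := Q_add (Q_anti (by omega) (Q_aug_zero hC u hu _ h1)) (Q_intCast (P.aug x))
  rwa [sub_add_cancel] at h2

lemma Q_gens (hC : Splits C) (u : K) (hu : Ample P u) (n : ℕ) (x : K)
    (hx : x ∈ gens P n) : Q P C n x := by
  obtain ⟨l, hl, hs, rfl⟩ := hx
  refine Q_anti hs ?_
  clear hs
  induction l with
  | nil => simpa using Q_one
  | cons p l ih =>
    rw [List.map_cons, List.map_cons, List.sum_cons, List.prod_cons]
    exact Q_mul (Q_gamma hC u hu p.2 (hl p (List.mem_cons_self ..)) p.1)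
      (ih (fun q hq => hl q (List.mem_cons_of_mem _ hq)))

theorem Q_of_mem (hC : Splits C) (u : K) (hu : Ample P u) (n : ℕ) (x : K)
    (hx : x ∈ gammaFiltration P n) : Q P C n x := by
  by_cases hn : n = 0
  · subst hn
    exact Q_all hC u hu x
  · rw [filtration_of_ne_zero P hn] at hx
    refine AddSubgroup.closure_induction (p := fun x _ => Q P C n x) ?_ ?_ ?_ ?_ hx
    · intro y hy
      exact Q_gens hC u hu n y hy
    · exact Q_zero n
    · intro y z _ _ hy hz
      exact Q_add hy hz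
    · intro y _ hy
      exact Q_neg hy

/-- **Elements of augmentation zero are nilpotent** in a λ-ring with splitting and an ample line
element. -/
theorem isNilpotent_of_aug_eq_zero (P : PosStructure K) (hK : HasSplitting K P) (u : K)
    (hu : Ample P u) (x : K) (hx : P.aug x = 0) : IsNilpotent x := by
  obtain ⟨C, hKC, hC⟩ := hK
  obtain ⟨L, hL, g, hg, W, hW, hWn, hWl, h1⟩ :=
    Q_aug_zero (P := P) (C := C) hC u hu x hx ⟨K, P⟩ hKC (RingHom.id K) (isExtension_id ⟨K, P⟩)
  obtain ⟨N, hN⟩ := exists_S_eq_bot W hW hWn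
  have h2 : g x ∈ S W 1 := h1
  have h3 := S_pow h2 N
  have h4 := hN _ (by omega) _ h3
  refine ⟨N, hg.injective ?_⟩
  rw [map_pow, map_zero]
  exact h4

end Q

section E

variable {K : Type u} [CommRing K]

/-- `E T c m n x = (T - c (n+m-1)) ⋯ (T - c (n+1)) (T - c n) x` -/
def E (T : K → K) (c : ℕ → ℤ) : ℕ → ℕ → K → K
  | 0, _, x => x
  | m + 1, n, x => E T c m (n + 1) (T x - (c n : K) * x)

lemma E_map {K' : Type v} [CommRing K'] (h : K →+ K') (T : K → K) (T' : K' → K')
    (hT : ∀ x, h (T x) = T' (h x)) (c : ℕ → ℤ) (m : ℕ) :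
    ∀ (n : ℕ) (x : K), h (E T c m n x) = E T' c m n (h x) := by
  induction m with
  | zero => intro n x; rfl
  | succ m ih =>
    intro n x
    rw [E, E, ih (n + 1), map_sub, hT]
    congr 2
    rw [← zsmul_eq_mul, map_zsmul, zsmul_eq_mul]

lemma E_mem (T : K → K) (c : ℕ → ℤ) (F : ℕ → AddSubgroup K)
    (hF : ∀ n, ∀ x ∈ F n, T x - (c n : K) * x ∈ F (n + 1)) (m : ℕ) :
    ∀ (n : ℕ) (x : K), x ∈ F n → E T c m n x ∈ F (n + m) := by
  induction m with
  | zero => intro n x hx; exact hx
  | succ m ih =>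
    intro n x hx
    rw [E]
    have := ih (n + 1) _ (hF n x hx)
    rwa [show n + 1 + m = n + (m + 1) by omega] at this

end E

section annih

variable {K : Type u} [CommRing K] [LambdaOps K]

/-- for `x ∈ F^n K` a product of operators `T - a j^k`, `n ≤ k < n + m`, kills `x`, where
`T y = θ ψ^j y` and `a` is the augmentation of `θ` -/
theorem exists_E_eq_zero (P : PosStructure K) (hK : HasSplitting K P) (u : K) (hu : Ample P u)
    (θ : K) (j n : ℕ) (x : K) (hx : x ∈ gammaFiltration P n) :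
    ∃ m : ℕ, E (fun y => θ * adams P j y) (fun k => P.aug θ * (j : ℤ) ^ k) m n x = 0 := by
  obtain ⟨C, hKC, hC⟩ := hK
  have hθ0 : P.aug (θ - (P.aug θ : K)) = 0 := by simp
  obtain ⟨L, hL, g, hg, W, hW, hWn, hWl, h1, h2⟩ :=
    Q_combine (P := P) (C := C) (Q_of_mem hC u hu n x hx) (Q_aug_zero hC u hu _ hθ0)
      ⟨K, P⟩ hKC (RingHom.id K) (isExtension_id ⟨K, P⟩)
  have hg' : IsExtension P L.posStr g := hg
  replace h1 : g x ∈ S W n := h1
  replace h2 : g θ - (P.aug θ : L.carrier) ∈ S W 1 := by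
    have h3 : g (θ - (P.aug θ : K)) ∈ S W 1 := h2
    rwa [map_sub, map_intCast] at h3
  obtain ⟨N, hN⟩ := exists_S_eq_bot W hW hWn
  have hLs : HasSplitting L.carrier L.posStr := ⟨C, hL, hC⟩
  refine ⟨N, hg.injective ?_⟩
  rw [map_zero]
  have h3 := E_map (g : K →+ L.carrier) (fun y => θ * adams P j y)
    (fun y => g θ * adams L.posStr j y)
    (fun y => by
      change g (θ * adams P j y) = g θ * adams L.posStr j (g y)
      rw [map_mul, map_adams hg']) (fun k => P.aug θ * (j : ℤ) ^ k) N n x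
  refine h3.trans ?_
  refine hN (n + N) (by omega) _ (E_mem _ _ (S W) ?_ N n _ h1)
  intro k y hy
  obtain ⟨hy1, hy2⟩ := adams_S L.posStr hLs hWl j k hy
  have h4 : g θ * adams L.posStr j y - ((P.aug θ * (j : ℤ) ^ k : ℤ) : L.carrier) * y =
      (g θ - (P.aug θ : L.carrier)) * adams L.posStr j y +
        (P.aug θ : L.carrier) * (adams L.posStr j y - (j : L.carrier) ^ k * y) := by
    push_cast; ring
  rw [h4]
  exact AddSubgroup.add_mem _ (S_mul' (by omega) h2 hy1) (S_intCast_mul _ hy2)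

end annih

section rational

variable {K : Type u} [CommRing K] [LambdaOps K] (P : PosStructure K)

/-- `ℚ F^n K`: elements having a positive multiple in `F^n K` -/
def QF (n : ℕ) : AddSubgroup K where
  carrier := {x | ∃ N : ℕ, 1 ≤ N ∧ (N : K) * x ∈ gammaFiltration P n}
  zero_mem' := ⟨1, le_rfl, by rw [mul_zero]; exact AddSubgroup.zero_mem _⟩
  add_mem' := by
    rintro x y ⟨N, hN, hx⟩ ⟨M, hM, hy⟩
    refine ⟨N * M, Nat.one_le_iff_ne_zero.mpr (by positivity), ?_⟩
    have h1 : ((N * M : ℕ) : K) * (x + y) = (M : K) * ((N : K) * x) + (N : K) * ((M : K) * y) := by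
      push_cast; ring
    rw [h1]
    exact AddSubgroup.add_mem _ (mul_mem_filtration_left P n _ _ hx)
      (mul_mem_filtration_left P n _ _ hy)
  neg_mem' := by
    rintro x ⟨N, hN, hx⟩
    refine ⟨N, hN, ?_⟩
    rw [mul_neg]
    exact AddSubgroup.neg_mem _ hx

lemma mem_QF {n : ℕ} {x : K} : x ∈ QF P n ↔ ∃ N : ℕ, 1 ≤ N ∧ (N : K) * x ∈ gammaFiltration P n :=
  Iff.rfl

lemma QF_anti {m n : ℕ} (h : m ≤ n) : QF P n ≤ QF P m := by
  rintro x ⟨N, hN, hx⟩
  exact ⟨N, hN, filtration_anti P h hx⟩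

lemma mem_QF_of_mem {n : ℕ} {x : K} (hx : x ∈ gammaFiltration P n) : x ∈ QF P n :=
  ⟨1, le_rfl, by simpa using hx⟩

lemma QF_mul_left {n : ℕ} (a : K) {x : K} (hx : x ∈ QF P n) : a * x ∈ QF P n := by
  obtain ⟨N, hN, hx⟩ := hx
  refine ⟨N, hN, ?_⟩
  have : (N : K) * (a * x) = a * ((N : K) * x) := by ring
  rw [this]
  exact mul_mem_filtration_left P n _ _ hx

lemma mem_QF_of_intCast_mul {n : ℕ} {x : K} (r : ℤ) (hr : r ≠ 0) (h : (r : K) * x ∈ QF P n) :
    x ∈ QF P n := by
  obtain ⟨N, hN, hx⟩ := h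
  refine ⟨N * r.natAbs, Nat.one_le_iff_ne_zero.mpr
    (Nat.mul_ne_zero (by omega) (Int.natAbs_ne_zero.mpr hr)), ?_⟩
  have h2 : (N : K) * ((r : K) * x) ∈ gammaFiltration P n := hx
  rcases Int.natAbs_eq r with h3 | h3
  · have h4 : ((N * r.natAbs : ℕ) : K) * x = (N : K) * ((r : K) * x) := by
      rw [h3]; push_cast; simp [mul_assoc]
    rw [h4]; exact h2
  · have h4 : ((N * r.natAbs : ℕ) : K) * x = -((N : K) * ((r : K) * x)) := by
      rw [h3]; push_cast; simp [mul_assoc]
    rw [h4]; exact AddSubgroup.neg_mem _ h2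

/-- `ψ^j = j^a` on `ℚF^a / ℚF^{a+1}` -/
lemma adams_sub_mem_QF (hK : HasSplitting K P) (j a : ℕ) {y : K} (hy : y ∈ QF P a) :
    adams P j y - (((j : ℤ) ^ a : ℤ) : K) * y ∈ QF P (a + 1) := by
  obtain ⟨N, hN, hy⟩ := hy
  refine ⟨N, hN, ?_⟩
  have h1 := (Good_of_mem P hK j a _ hy).2
  have h2 : adams P j ((N : K) * y) = (N : K) * adams P j y := by
    rw [← nsmul_eq_mul, ← nsmul_eq_mul, ← adamsHom_apply, ← adamsHom_apply, map_nsmul]
  rw [h2] at h1
  have h3 : (N : K) * (adams P j y - (((j : ℤ) ^ a : ℤ) : K) * y) =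
      (N : K) * adams P j y - (j : K) ^ a * ((N : K) * y) := by push_cast; ring
  rw [h3]
  exact h1

lemma E_sub_mem (hK : HasSplitting K P) (j : ℕ) (c : ℕ → ℤ) (a : ℕ) (m : ℕ) :
    ∀ (n : ℕ), (∀ k, n ≤ k → c k ≠ (j : ℤ) ^ a) → ∀ y ∈ QF P a,
      ∃ r : ℤ, r ≠ 0 ∧ E (adams P j) c m n y - (r : K) * y ∈ QF P (a + 1) := by
  induction m with
  | zero =>
    intro n _ y _
    refine ⟨1, one_ne_zero, ?_⟩
    rw [E]
    simp [AddSubgroup.zero_mem]
  | succ m ih =>
    intro n hc y hy
    have h1 := adams_sub_mem_QF P hK j a hy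
    have h2 : adams P j y - (c n : K) * y ∈ QF P a := by
      have h3 : adams P j y - (c n : K) * y = (adams P j y - (((j : ℤ) ^ a : ℤ) : K) * y) +
        ((((j : ℤ) ^ a : ℤ) : K) - (c n : K)) * y := by ring
      rw [h3]
      exact AddSubgroup.add_mem _ (QF_anti P (by omega) h1) (QF_mul_left P _ hy)
    obtain ⟨r, hr, h3⟩ := ih (n + 1) (fun k hk => hc k (by omega)) _ h2
    refine ⟨r * ((j : ℤ) ^ a - c n), mul_ne_zero hr (sub_ne_zero.mpr (hc n le_rfl).symm), ?_⟩
    rw [E]
    have h4 : E (adams P j) c m (n + 1) (adams P j y - (c n : K) * y) -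
        ((r * ((j : ℤ) ^ a - c n) : ℤ) : K) * y =
        (E (adams P j) c m (n + 1) (adams P j y - (c n : K) * y) -
          (r : K) * (adams P j y - (c n : K) * y)) +
        (r : K) * (adams P j y - (((j : ℤ) ^ a : ℤ) : K) * y) := by
      push_cast; ring
    rw [h4]
    exact AddSubgroup.add_mem _ h3 (QF_mul_left P _ h1)

/-- if a product of operators `ψ^j - j^{k+d}`, `k ≥ n`, kills `y`, then `y ∈ ℚF^{n+d}` -/
theorem mem_QF_of_E_eq_zero (hK : HasSplitting K P) (j : ℕ) (c : ℕ → ℤ) (b m n : ℕ)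
    (hc : ∀ k, n ≤ k → ∀ a, a < b → c k ≠ (j : ℤ) ^ a) (y : K)
    (hy : E (adams P j) c m n y = 0) : y ∈ QF P b := by
  have key : ∀ a, a ≤ b → y ∈ QF P a := by
    intro a
    induction a with
    | zero => intro _; exact mem_QF_of_mem P (mem_filtration_zero P y)
    | succ a ih =>
      intro ha
      obtain ⟨r, hr, h1⟩ := E_sub_mem P hK j c a m n (fun k hk => hc k hk a (by omega)) y
        (ih (by omega))
      rw [hy, zero_sub] at h1
      have h2 := AddSubgroup.neg_mem _ h1
      rw [neg_neg] at h2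
      exact mem_QF_of_intCast_mul P r hr h2
  exact key b le_rfl

end rational

/-- **Filtration shift from an Adams Riemann–Roch formula.**  `K`, `K'` with the splitting property,
`K` with an ample line element, `h : K → K'` additive with `ψ^j (h x) = h (θ · ψ^j x)` for one
`j ≥ 2`, where `θ` has augmentation `j ^ d`.  Then `h (F^n K) ⊆ ℚF^{n+d} K'`. -/
theorem filtShift {K : Type u} {K' : Type v} [CommRing K] [LambdaOps K] [CommRing K'] [LambdaOps K']
    (P : PosStructure K) (P' : PosStructure K') (hK : HasSplitting K P) (hK' : HasSplitting K' P')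
    (u : K) (hu : Ample P u) (h : K →+ K') (j : ℕ) (hj : 2 ≤ j) (d : ℕ) (θ : K)
    (hθ : P.aug θ = (j : ℤ) ^ d) (hh : ∀ x, adams P' j (h x) = h (θ * adams P j x))
    (n : ℕ) (x : K) (hx : x ∈ gammaFiltration P n) : h x ∈ QF P' (n + d) := by
  obtain ⟨m, hm⟩ := exists_E_eq_zero P hK u hu θ j n x hx
  have h1 := E_map h (fun y => θ * adams P j y) (adams P' j) (fun y => (hh y).symm)
    (fun k => P.aug θ * (j : ℤ) ^ k) m n x
  rw [hm, map_zero] at h1
  refine mem_QF_of_E_eq_zero P' hK' j _ (n + d) m n ?_ (h x) h1.symm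
  intro k hk a ha
  rw [hθ, ← pow_add]
  intro h2
  have h3 : (j : ℤ) ^ a < (j : ℤ) ^ (d + k) := pow_lt_pow_right₀ (by exact_mod_cast hj) (by omega)
  rw [h2] at h3
  exact lt_irrefl _ h3

end Groth.Agent.Krr.H474.FiltShift
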