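import Groth.Agent.Krr.H474.FiltShift
import Groth.Agent.Krr.H442.ModelIso
import Groth.Agent.Krr.H442.AmpleClass
import Groth.Agent.Krr.H491.BottMul
import Groth.Agent.Krr.H495.Model
import Groth.Agent.Sga5.AmpleFib
import Groth.Prelude.Def_Omega2

/-!
# Filtration shift of `f_K` for a regular closed immersion, from the Adams Riemann–Roch formula

`pushCl_gammaFiltration`: for `Y` connected Noetherian with an ample module, `f : X ⟶ Y` a closed
immersion with `X` connected, `C` a finite locally free module of rank `d` on `X`, `h : K(X) → K(Y)`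
additive with `ψ^j (h x) = h (θ^j[C] ψ^j x)` for one `j ≥ 2`, one has
`h (F^n K(X)) ⊆ ℚ F^{n+d} K(Y)`, provided models of K(X), K(Y) have the splitting property.
-/

set_option autoImplicit false
universe v w u

open CategoryTheory CategoryTheory.Limits AlgebraicGeometry KRR LambdaRing
open Groth.Agent.Krr.H442.PosIso Groth.Agent.Krr.H442.ModelIso

namespace Groth.Agent.Krr.H474.Main

theorem isNoetherian_of_isClosedImmersion {X Y : Scheme.{u}} [IsNoetherian Y] (f : X ⟶ Y)
    [IsClosedImmersion f] : IsNoetherian X := by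
  have h1 : IsLocallyNoetherian X := LocallyOfFiniteType.isLocallyNoetherian f
  have h2 : CompactSpace X := QuasiCompact.compactSpace_of_compactSpace f
  exact {}

/-- the augmentation of the Bott class of a vector bundle of rank `d` is `j ^ d` -/
theorem aug_bott_cl {X : Scheme.{u}} {K : Type v} [CommRing K] [LambdaOps K] {P : PosStructure K}
    {φ : SGA6.Kvb X →+ K} (h : IsModel X K P φ) (hs : HasSplitting K P) (j d : ℕ) {C : X.Modules}
    (hC : FlatMod.IsFinLocFreeOfRank d C) : P.aug (bott P j (φ (cl X C))) = (j : ℤ) ^ d := by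
  rcases Nat.eq_zero_or_pos d with rfl | hd
  · rw [Groth.Agent.Krr.H442.AmpleClass.cl_eq_zero_of_rank_zero hC, map_zero,
      Groth.Agent.Krr.H491.BottMul.bott_zero, map_one, pow_zero]
  · have h1 : φ (cl X C) ∈ P.pos := (h.mem_pos_iff _).2 ⟨d, C, hd, hC, rfl⟩
    rw [Groth.Agent.Krr.H491.BottMul.aug_bott P hs j _ h1, h.aug_cl d C hC]
    simp

/-- version in which the models have the splitting property -/
theorem aux {X : Scheme.{u}} [IsNoetherian X] [ConnectedSpace X] (L : X.Modules)
    (hL : CohB1.IsAmple L) (d : ℕ) (C : X.Modules) (hC : FlatMod.IsFinLocFreeOfRank d C)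
    (KX : Type v) [CommRing KX] [LambdaOps KX] (PX : PosStructure KX) (φX : SGA6.Kvb X →+ KX)
    (hKX : IsModel X KX PX φX) (hsX : HasSplitting KX PX)
    (KY : Type w) [CommRing KY] [LambdaOps KY] (PY : PosStructure KY)
    (hsY : HasSplitting KY PY)
    (h : KX →+ KY) (j : ℕ) (hj : 2 ≤ j)
    (hRR : ∀ x, adams PY j (h x) = h (bott PX j (φX (cl X C)) * adams PX j x))
    (n : ℕ) (x : KX) (hx : x ∈ gammaFiltration PX n) :
    ∃ N : ℕ, 1 ≤ N ∧ (N : KY) * h x ∈ gammaFiltration PY (n + d) :=
  FiltShift.filtShift PX PY hsX hsY (φX (cl X L))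
    (Groth.Agent.Krr.H442.AmpleClass.isAmpleElt_of_isAmple hKX hL) h j hj d _
    (aug_bott_cl hKX hsX j d hC) hRR n x hx

/-- `K(X)` has the splitting property for all models (the statement of S3785) -/
def SplitHyp (X : Scheme.{u}) : Prop :=
  ∀ (K : Type (u + 1)) [CommRing K] [LambdaOps K] (P : PosStructure K) (φ : SGA6.Kvb X →+ K),
    IsModel X K P φ → HasSplitting K P

/-- The shift of the γ-filtration, for models in any universe. -/
theorem pushCl_gammaFiltration {X Y : Scheme.{u}} [IsNoetherian Y] [ConnectedSpace Y]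
    (LY : Y.Modules) (hLY : CohB1.IsAmple LY) (f : X ⟶ Y) [IsClosedImmersion f] [ConnectedSpace X]
    (hsX : SplitHyp X) (hsY : SplitHyp Y)
    (d : ℕ) (C : X.Modules) (hC : FlatMod.IsFinLocFreeOfRank d C)
    (KX : Type v) [CommRing KX] [LambdaOps KX] (PX : PosStructure KX) (φX : SGA6.Kvb X →+ KX)
    (hKX : IsModel X KX PX φX)
    (KY : Type w) [CommRing KY] [LambdaOps KY] (PY : PosStructure KY) (φY : SGA6.Kvb Y →+ KY)
    (hKY : IsModel Y KY PY φY)
    (h : KX →+ KY) (j : ℕ) (hj : 2 ≤ j)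
    (hRR : ∀ x, adams PY j (h x) = h (bott PX j (φX (cl X C)) * adams PX j x))
    (n : ℕ) (x : KX) (hx : x ∈ gammaFiltration PX n) :
    ∃ N : ℕ, 1 ≤ N ∧ (N : KY) * h x ∈ gammaFiltration PY (n + d) := by
  have hX : IsNoetherian X := isNoetherian_of_isClosedImmersion f
  let := Groth.Agent.Krr.H495.Model.lambdaOps X
  let := Groth.Agent.Krr.H495.Model.lambdaOps Y
  have hMX := Groth.Agent.Krr.H495.Model.isModel X
  have hMY := Groth.Agent.Krr.H495.Model.isModel Y
  obtain ⟨eX, heX, heX'⟩ := exists_posIso hKX hMX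
  obtain ⟨eY, heY, heY'⟩ := exists_posIso hKY hMY
  obtain ⟨N, hN, hmem⟩ := aux ((Scheme.Modules.pullback f).obj LY)
    (Groth.Agent.Sga5.AmpleFib.isAmple_pullback f hLY) d C hC _ _ _ hMX
    (hsX _ _ _ hMX) _ (Groth.Agent.Krr.H495.Model.pos Y) (hsY _ _ _ hMY) (conj eX eY h) j hj
    (fun x => by
      obtain ⟨y, rfl⟩ := eX.surjective x
      rw [← heX' (cl X C), ← heX.bott, ← heX.adams, conj_apply_apply, ← map_mul,
        conj_apply_apply, ← heY.adams, hRR]) n (eX x)
    ((heX.mem_gammaFiltration_iff n x).1 hx)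
  refine ⟨N, hN, ?_⟩
  rw [heY.mem_gammaFiltration_iff, map_mul, map_natCast]
  rwa [conj_apply_apply] at hmem

end Groth.Agent.Krr.H474.Main
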