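import Groth.Agent.Krr.H474.NilpSplit
import Mathlib.RingTheory.Nilpotent.Lemmas
import Mathlib.RingTheory.Finiteness.Ideal
import Mathlib.RingTheory.Noetherian.Nilpotent

/-!
# The filtration of a ring by products of elements of a set `W`, and the Adams operations on it

`S W n` is the additive subgroup generated by products of at least `n` elements of `W`.  If `W` is
finite and consists of nilpotent elements, `S W n = 0` for large `n`.  If `1 + w` is a line element
for `w ∈ W`, then the Adams operation `ψ^j` acts on `S W n` as `j^n` modulo `S W (n+1)`.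
-/

set_option autoImplicit false
universe u

open PowerSeries Finset LambdaRing

namespace Groth.Agent.Krr.H474.NilFilt

open Groth.Agent.Books.Lambda1 Groth.Agent.Books.Lambda2 Groth.Agent.Books.Lambda3

section ring

variable {K : Type u} [CommRing K]

/-- products of at least `n` elements of `W` -/
def prods (W : Set K) (n : ℕ) : Set K := {y | ∃ l : List K, (∀ w ∈ l, w ∈ W) ∧ n ≤ l.length ∧ y = l.prod}

/-- the additive subgroup generated by the products of at least `n` elements of `W` -/
def S (W : Set K) (n : ℕ) : AddSubgroup K := AddSubgroup.closure (prods W n)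

lemma prods_mono {W W' : Set K} (h : W ⊆ W') (n : ℕ) : prods W n ⊆ prods W' n := by
  rintro y ⟨l, hl, hn, rfl⟩
  exact ⟨l, fun w hw => h (hl w hw), hn, rfl⟩

lemma S_mono {W W' : Set K} (h : W ⊆ W') (n : ℕ) : S W n ≤ S W' n :=
  AddSubgroup.closure_mono (prods_mono h n)

lemma S_anti (W : Set K) {m n : ℕ} (h : m ≤ n) : S W n ≤ S W m := by
  apply AddSubgroup.closure_mono
  rintro y ⟨l, hl, hn, rfl⟩
  exact ⟨l, hl, h.trans hn, rfl⟩

lemma one_mem_S (W : Set K) : (1 : K) ∈ S W 0 :=
  AddSubgroup.subset_closure ⟨[], by simp, by simp, by simp⟩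

lemma mem_S_one {W : Set K} {w : K} (hw : w ∈ W) : w ∈ S W 1 :=
  AddSubgroup.subset_closure ⟨[w], by simpa using hw, by simp, by simp⟩

lemma prods_mul {W : Set K} {m n : ℕ} {x y : K} (hx : x ∈ prods W m) (hy : y ∈ prods W n) :
    x * y ∈ prods W (m + n) := by
  obtain ⟨l, hl, hm, rfl⟩ := hx
  obtain ⟨l', hl', hn, rfl⟩ := hy
  refine ⟨l ++ l', ?_, ?_, ?_⟩
  · intro w hw
    rcases List.mem_append.mp hw with h | h
    · exact hl w h
    · exact hl' w h
  · rw [List.length_append]; omega
  · rw [List.prod_append]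

lemma S_mul {W : Set K} {m n : ℕ} {x y : K} (hx : x ∈ S W m) (hy : y ∈ S W n) :
    x * y ∈ S W (m + n) := by
  refine AddSubgroup.closure_induction (p := fun x _ => x * y ∈ S W (m + n)) ?_ ?_ ?_ ?_ hx
  · intro x hx
    refine AddSubgroup.closure_induction (p := fun y _ => x * y ∈ S W (m + n)) ?_ ?_ ?_ ?_ hy
    · intro y hy
      exact AddSubgroup.subset_closure (prods_mul hx hy)
    · simp [AddSubgroup.zero_mem]
    · intro y z _ _ hy hz
      rw [mul_add]
      exact AddSubgroup.add_mem _ hy hz
    · intro y _ hy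
      rw [mul_neg]
      exact AddSubgroup.neg_mem _ hy
  · simp [AddSubgroup.zero_mem]
  · intro y z _ _ hy hz
    rw [add_mul]
    exact AddSubgroup.add_mem _ hy hz
  · intro y _ hy
    rw [neg_mul]
    exact AddSubgroup.neg_mem _ hy

lemma S_mul' {W : Set K} {m n k : ℕ} (h : m + n = k) {x y : K} (hx : x ∈ S W m) (hy : y ∈ S W n) :
    x * y ∈ S W k := h ▸ S_mul hx hy

lemma S_intCast_mul {W : Set K} {n : ℕ} (a : ℤ) {x : K} (hx : x ∈ S W n) : (a : K) * x ∈ S W n := by
  rw [← zsmul_eq_mul]
  exact AddSubgroup.zsmul_mem _ hx a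

lemma S_natCast_mul {W : Set K} {n : ℕ} (a : ℕ) {x : K} (hx : x ∈ S W n) : (a : K) * x ∈ S W n := by
  rw [← nsmul_eq_mul]
  exact AddSubgroup.nsmul_mem _ hx a

lemma intCast_mem_S (W : Set K) (a : ℤ) : (a : K) ∈ S W 0 := by
  have := S_intCast_mul a (one_mem_S W)
  rwa [mul_one] at this

lemma natCast_mem_S (W : Set K) (a : ℕ) : (a : K) ∈ S W 0 := by
  have := S_natCast_mul a (one_mem_S W)
  rwa [mul_one] at this

lemma S_pow {W : Set K} {n : ℕ} {x : K} (hx : x ∈ S W n) (k : ℕ) : x ^ k ∈ S W (k * n) := by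
  induction k with
  | zero => simpa using one_mem_S W
  | succ k ih =>
    rw [pow_succ, Nat.succ_mul]
    exact S_mul ih hx

lemma S_map {K' : Type u} [CommRing K'] (f : K →+* K') {W : Set K} {W' : Set K'}
    (h : ∀ w ∈ W, f w ∈ W') {n : ℕ} {x : K} (hx : x ∈ S W n) : f x ∈ S W' n := by
  refine AddSubgroup.closure_induction (p := fun x _ => f x ∈ S W' n) ?_ ?_ ?_ ?_ hx
  · rintro y ⟨l, hl, hn, rfl⟩
    refine AddSubgroup.subset_closure ⟨l.map f, ?_, by simpa using hn, by rw [map_list_prod]⟩
    intro w hw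
    obtain ⟨v, hv, rfl⟩ := List.mem_map.mp hw
    exact h v (hl v hv)
  · simp [AddSubgroup.zero_mem]
  · intro y z _ _ hy hz
    rw [map_add]
    exact AddSubgroup.add_mem _ hy hz
  · intro y _ hy
    rw [map_neg]
    exact AddSubgroup.neg_mem _ hy

lemma S_le_pow (W : Set K) (n : ℕ) {x : K} (hx : x ∈ S W n) : x ∈ (Ideal.span W) ^ n := by
  refine AddSubgroup.closure_induction (p := fun x _ => x ∈ (Ideal.span W) ^ n) ?_ ?_ ?_ ?_ hx
  · rintro y ⟨l, hl, hn, rfl⟩
    have h1 : l.prod ∈ (Ideal.span W) ^ l.length := by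
      clear hn
      induction l with
      | nil => simp
      | cons a l ih =>
        rw [List.prod_cons, List.length_cons, pow_succ']
        exact Ideal.mul_mem_mul (Ideal.subset_span (hl a (List.mem_cons_self ..)))
          (ih (fun w hw => hl w (List.mem_cons_of_mem _ hw)))
    exact Ideal.pow_le_pow_right hn h1
  · exact Submodule.zero_mem _
  · intro y z _ _ hy hz
    exact Submodule.add_mem _ hy hz
  · intro y _ hy
    exact Submodule.neg_mem _ hy

/-- for a finite set of nilpotent elements the filtration is finite -/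
lemma exists_S_eq_bot (W : Set K) (hW : W.Finite) (hn : ∀ w ∈ W, IsNilpotent w) :
    ∃ N : ℕ, ∀ n, N ≤ n → ∀ x ∈ S W n, x = 0 := by
  have h1 : Ideal.span W ≤ nilradical K := by
    rw [Ideal.span_le]
    intro w hw
    exact hn w hw
  have h2 : (Ideal.span W).FG := ⟨hW.toFinset, by simp⟩
  obtain ⟨N, hN⟩ := h2.isNilpotent_iff_le_nilradical.mpr h1
  refine ⟨N, fun n hn x hx => ?_⟩
  have h3 := S_le_pow W n hx
  have h4 := Ideal.pow_le_pow_right hn h3
  rw [hN] at h4
  simpa using h4

end ring

section adams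

variable {K : Type u} [CommRing K] [LambdaOps K]

/-- `W` consists of elements `w` with `1 + w` a line element -/
def IsLineSet (P : PosStructure K) (W : Set K) : Prop := ∀ w ∈ W, P.IsLine (1 + w)

lemma adams_line_sub (P : PosStructure K) {W : Set K} (hW : IsLineSet P W) (j : ℕ) {w : K}
    (hw : w ∈ W) : adams P j w ∈ S W 1 ∧ adams P j w - (j : K) * w ∈ S W 2 := by
  have h1 : adams P j w = (1 + w) ^ j - 1 := by
    have h2 : w = (1 + w) - 1 := by ring
    have h3 : adams P j ((1 + w) - 1) = adams P j (1 + w) - adams P j 1 :=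
      (adamsHom P j).map_sub _ _
    conv_lhs => rw [h2]
    rw [h3, adams_line P _ (hW w hw), adams_one]
  have hw1 : w ∈ S W 1 := mem_S_one hw
  have key : ∀ j : ℕ, (1 + w) ^ j - 1 - (j : K) * w ∈ S W 2 := by
    intro j
    induction j with
    | zero => simp [AddSubgroup.zero_mem]
    | succ j ih =>
      have h2 : (1 + w) ^ (j + 1) - 1 - ((j + 1 : ℕ) : K) * w =
          ((1 + w) ^ j - 1 - (j : K) * w) * (1 + w) + (j : K) * (w * w) := by
        push_cast; ring
      rw [h2]
      have h3 : (1 + w : K) ∈ S W 0 := AddSubgroup.add_mem _ (one_mem_S W) (S_anti W (by omega) hw1)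
      exact AddSubgroup.add_mem _ (S_mul' (by omega) ih h3)
        (S_natCast_mul j (S_mul' (by omega) hw1 hw1))
  rw [h1]
  refine ⟨?_, key j⟩
  have h4 : (1 + w) ^ j - 1 = ((1 + w) ^ j - 1 - (j : K) * w) + (j : K) * w := by ring
  rw [h4]
  exact AddSubgroup.add_mem _ (S_anti W (by omega) (key j)) (S_natCast_mul j hw1)

/-- `ψ^j` acts on `S W n` as `j ^ n` modulo `S W (n + 1)` -/
lemma adams_S (P : PosStructure K) (hK : HasSplitting K P) {W : Set K} (hW : IsLineSet P W) (j n : ℕ)
    {x : K} (hx : x ∈ S W n) : adams P j x ∈ S W n ∧ adams P j x - (j : K) ^ n * x ∈ S W (n + 1) := by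
  have h1 : ∀ x ∈ S W n, adams P j x ∈ S W n ∧ adams P j x - (j : K) ^ n * x ∈ S W (n + 1) := by
    intro x hx
    refine AddSubgroup.closure_induction
      (p := fun x _ => adams P j x ∈ S W n ∧ adams P j x - (j : K) ^ n * x ∈ S W (n + 1))
      ?_ ?_ ?_ ?_ hx
    · rintro y ⟨l, hl, hn, rfl⟩
      have h2 : l.prod ∈ S W l.length ∧ adams P j l.prod ∈ S W l.length ∧
          adams P j l.prod - (j : K) ^ l.length * l.prod ∈ S W (l.length + 1) := by
        clear hn
        induction l with
        | nil =>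
          simp only [List.prod_nil, List.length_nil, pow_zero, one_mul, adams_one, sub_self]
          exact ⟨one_mem_S W, one_mem_S W, AddSubgroup.zero_mem _⟩
        | cons a l ih =>
          obtain ⟨ih1, ih2, ih3⟩ := ih (fun w hw => hl w (List.mem_cons_of_mem _ hw))
          have ha := hl a (List.mem_cons_self ..)
          obtain ⟨ha1, ha2⟩ := adams_line_sub P hW j ha
          rw [List.prod_cons, List.length_cons, adams_mul P hK, add_comm l.length 1]
          refine ⟨S_mul' rfl (mem_S_one ha) ih1, S_mul' rfl ha1 ih2, ?_⟩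
          have h3 : adams P j a * adams P j l.prod - (j : K) ^ (1 + l.length) * (a * l.prod) =
              (adams P j a - (j : K) * a) * adams P j l.prod +
              (j : K) * (a * (adams P j l.prod - (j : K) ^ l.length * l.prod)) := by
            rw [pow_add, pow_one]; ring
          rw [h3]
          refine AddSubgroup.add_mem _ ?_ (S_natCast_mul j ?_)
          · exact S_mul' (by omega) ha2 ih2
          · exact S_mul' (by omega) (mem_S_one ha) ih3
      refine ⟨S_anti W hn h2.2.1, ?_⟩
      rcases Nat.eq_or_lt_of_le hn with rfl | hn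
      · exact h2.2.2
      · refine AddSubgroup.sub_mem _ (S_anti W (by omega) h2.2.1) ?_
        have := S_natCast_mul (j ^ n) (S_anti W (show n + 1 ≤ l.length by omega) h2.1)
        push_cast at this
        exact this
    · have h : adams P j 0 = 0 := (adamsHom P j).map_zero
      rw [h, mul_zero, sub_zero]
      exact ⟨AddSubgroup.zero_mem _, AddSubgroup.zero_mem _⟩
    · rintro y z _ _ ⟨hy, hy'⟩ ⟨hz, hz'⟩
      rw [adams_add]
      refine ⟨AddSubgroup.add_mem _ hy hz, ?_⟩
      have : adams P j y + adams P j z - (j : K) ^ n * (y + z) =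
        (adams P j y - (j : K) ^ n * y) + (adams P j z - (j : K) ^ n * z) := by ring
      rw [this]
      exact AddSubgroup.add_mem _ hy' hz'
    · rintro y _ ⟨hy, hy'⟩
      have h : adams P j (-y) = - adams P j y := (adamsHom P j).map_neg y
      rw [h]
      refine ⟨AddSubgroup.neg_mem _ hy, ?_⟩
      have : -adams P j y - (j : K) ^ n * -y = -(adams P j y - (j : K) ^ n * y) := by ring
      rw [this]
      exact AddSubgroup.neg_mem _ hy'
  exact h1 x hx

end adams

end Groth.Agent.Krr.H474.NilFilt
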