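import Groth.Agent.Books.Lambda3
import Mathlib.RingTheory.Nilpotent.Basic
import Mathlib.RingTheory.Nilpotent.Lemmas
import Mathlib.RingTheory.Polynomial.Nilpotent
import Mathlib.Tactic.LinearCombination

/-!
# Nilpotence of `v - 1` for the line elements of a splitting extension

Let `(K, P)` be a lambda-ring with positive structure and the splitting property and let `u` be an
ample line element.  If a positive element `f` of `K` splits in an extension `L` as a sum of line
elements `v`, then all `v - 1` are nilpotent.
-/

set_option autoImplicit false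
universe u

open PowerSeries Finset LambdaRing

namespace Groth.Agent.Krr.H474.NilpSplit

open Groth.Agent.Books.Lambda1 Groth.Agent.Books.Lambda2 Groth.Agent.Books.Lambda3

section

variable {K : Type u} [CommRing K] [LambdaOps K]

/-- the ample element condition (unfolded form of `KRR.IsAmpleElt`) -/
def Ample (P : PosStructure K) (u : K) : Prop :=
  P.IsLine u ∧ ∀ x : K, ∃ n₀ : ℕ, ∀ n : ℕ, n₀ ≤ n →
    ∃ (e : K) (m : ℕ), e ∈ P.pos ∧ u ^ n * x = e - m

lemma isUnit_line (P : PosStructure K) {w : K} (hw : P.IsLine w) : IsUnit w := by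
  have h := P.isUnit_lam w hw.1
  rw [hw.2] at h
  simpa [LambdaOps.lam_one] using h

lemma gammaSeries_multiset (P : PosStructure K) (s : Multiset K) (hs : ∀ v ∈ s, P.IsLine v) :
    gammaSeries (s.sum - (Multiset.card s : K)) =
      (((s.map fun v => 1 + Polynomial.C (v - 1) * Polynomial.X).prod : Polynomial K) :
        PowerSeries K) := by
  induction s using Multiset.induction_on with
  | empty => simp [gammaSeries_zero]
  | cons v s ih =>
    have h1 : (v ::ₘ s).sum - (Multiset.card (v ::ₘ s) : K) =
        (v - 1) + (s.sum - (Multiset.card s : K)) := by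
      rw [Multiset.sum_cons, Multiset.card_cons]; push_cast; ring
    rw [h1, gammaSeries_add, ih (fun w hw => hs w (Multiset.mem_cons_of_mem hw)),
      gammaSeries_line_sub_one P v (hs v (Multiset.mem_cons_self _ _)), Multiset.map_cons,
      Multiset.prod_cons, Polynomial.coe_mul]
    congr 1
    simp

/-- if line elements `v` (in `s`) and `w` (in `t`) add up to a natural number, then
all `v - 1` are nilpotent -/
lemma isNilpotent_of_sum_add_sum (P : PosStructure K) (s t : Multiset K)
    (hs : ∀ v ∈ s, P.IsLine v) (ht : ∀ v ∈ t, P.IsLine v) (m : ℕ)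
    (h : s.sum + t.sum = (m : K)) {v : K} (hv : v ∈ s) : IsNilpotent (v - 1) := by
  have haug : (Multiset.card s : ℤ) + Multiset.card t = m := by
    rw [← aug_multiset_sum P s hs, ← aug_multiset_sum P t ht, ← map_add, h, map_natCast]
  have hm : ((Multiset.card s : ℕ) : K) + (Multiset.card t : ℕ) = (m : K) := by
    rw [← Nat.cast_add]
    congr 1
    omega
  have h0 : (s.sum - (Multiset.card s : K)) + (t.sum - (Multiset.card t : K)) = 0 := by
    linear_combination h - hm
  have h1 : gammaSeries (s.sum - (Multiset.card s : K)) *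
      gammaSeries (t.sum - (Multiset.card t : K)) = 1 := by
    rw [← gammaSeries_add, h0, gammaSeries_zero]
  rw [gammaSeries_multiset P s hs, gammaSeries_multiset P t ht, ← Polynomial.coe_mul,
    ← Polynomial.coe_one] at h1
  have h2 := Polynomial.coe_injective K h1
  obtain ⟨s', rfl⟩ := Multiset.exists_cons_of_mem hv
  rw [Multiset.map_cons, Multiset.prod_cons, mul_assoc] at h2
  have h3 : IsUnit (1 + Polynomial.C (v - 1) * Polynomial.X) := IsUnit.of_mul_eq_one _ h2
  have h4 := (Polynomial.isUnit_iff_coeff_isUnit_isNilpotent.mp h3).2 1 one_ne_zero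
  simpa [Polynomial.coeff_one] using h4

end

section

variable {K L : Type u} [CommRing K] [LambdaOps K] [CommRing L] [LambdaOps L]

/-- in an extension with the splitting property in which a positive element `e` splits as a sum of
line elements `v`, all `v - 1` are nilpotent, provided that the base has an ample line element -/
theorem isNilpotent_sub_one (P : PosStructure K) (u : K) (hu : Ample P u)
    (PL : PosStructure L) (hL : HasSplitting L PL) (g : K →+* L) (hg : IsExtension P PL g)
    (e : K) (s : Multiset L) (hs : ∀ v ∈ s, PL.IsLine v) (hsum : s.sum = g e)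
    {v : L} (hv : v ∈ s) : IsNilpotent (v - 1) := by
  obtain ⟨n₀, hn₀⟩ := hu.2 (-e)
  have hgu : PL.IsLine (g u) := IsLine_map hg hu.1
  have key : ∀ n, n₀ ≤ n → IsNilpotent (g u ^ n * v - 1) := by
    intro n hn
    obtain ⟨e', m, he', hem⟩ := hn₀ n hn
    obtain ⟨M, f, hf, t, ht, htsum⟩ := exists_split PL hL (g e') (hg.pos_subset _ he')
    have h1 : IsNilpotent (f (g u ^ n * v) - 1) := by
      apply isNilpotent_of_sum_add_sum M.posStr (s.map fun v => f (g u ^ n * v)) t _ ht m _
        (Multiset.mem_map_of_mem _ hv)
      · intro w hw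
        obtain ⟨w', hw', rfl⟩ := Multiset.mem_map.mp hw
        exact IsLine_map hf (IsLine_mul PL (IsLine_pow PL hgu n) (hs w' hw'))
      · rw [htsum]
        have h2 : (s.map fun v => f (g u ^ n * v)).sum = f (g u ^ n * s.sum) := by
          have h4 : g u ^ n * s.sum = (s.map fun v => g u ^ n * v).sum := by
            rw [Multiset.sum_map_mul_left, Multiset.map_id']
          rw [h4, map_multiset_sum, Multiset.map_map]
          rfl
        rw [h2, hsum, ← map_add, ← map_pow, ← map_mul, ← map_add]
        have h3 : u ^ n * e + e' = (m : K) := by linear_combination -hem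
        rw [h3, map_natCast, map_natCast]
    rw [← map_one f, ← map_sub] at h1
    exact (IsNilpotent.map_iff hf.injective).mp h1
  have hvunit : IsUnit v := isUnit_line PL (hs v hv)
  have huunit : IsUnit (g u) := isUnit_line PL hgu
  have hu1 : IsNilpotent (g u - 1) := by
    have h1 := (Commute.all _ _).isNilpotent_sub (key (n₀ + 1) (by omega)) (key n₀ le_rfl)
    have h2 : (g u ^ (n₀ + 1) * v - 1) - (g u ^ n₀ * v - 1) = (g u ^ n₀ * v) * (g u - 1) := by ring
    rw [h2] at h1
    have h3 : IsUnit (g u ^ n₀ * v) := (huunit.pow n₀).mul hvunit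
    obtain ⟨c, hc⟩ := h3.exists_left_inv
    have h4 : g u - 1 = c * ((g u ^ n₀ * v) * (g u - 1)) := by
      rw [← mul_assoc, hc, one_mul]
    rw [h4]
    exact (Commute.all _ _).isNilpotent_mul_left h1
  have hun : IsNilpotent (g u ^ n₀ - 1) := by
    have h1 : g u - 1 ∣ g u ^ n₀ - 1 := by
      simpa using sub_dvd_pow_sub_pow (g u) 1 n₀
    obtain ⟨c, hc⟩ := h1
    rw [hc]
    exact (Commute.all _ _).isNilpotent_mul_right hu1
  have h1 : v - 1 = (g u ^ n₀ * v - 1) - v * (g u ^ n₀ - 1) := by ring
  rw [h1]
  exact (Commute.all _ _).isNilpotent_sub (key n₀ le_rfl)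
    ((Commute.all _ _).isNilpotent_mul_left hun)

end

end Groth.Agent.Krr.H474.NilpSplit
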